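import Cfsg.Agent.Lib.Char.ExtensionCoset
import Cfsg.Agent.Lib.Char.CanonicalExtension
import Cfsg.Agent.Lib.Char.Eigen

/-!
# The coset of a generator of a cyclic quotient

`N` is normal in `Γ` and `Γ = N⟨s⟩`. Every irreducible character of `Γ` is on the coset `Ns` either
zero or a multiple of an extension of an invariant irreducible character of `N`.
-/

set_option autoImplicit false
set_option linter.style.haveILetI false
set_option linter.unusedSectionVars false

namespace CfsgLib.Char.RelGlauberman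

open Cfsg CfsgLib.Char CfsgLib.Char.Canonical
open scoped ComplexConjugate CfsgLib.Char

variable {Γ : Type*} [Group Γ] [Fintype Γ] (N : Subgroup Γ) [hN : N.Normal] [Fintype N] {s : Γ}

theorem isCyclic_quotient (htop : N ⊔ Subgroup.zpowers s = ⊤) : IsCyclic (Γ ⧸ N) := by
  refine ⟨⟨(s : Γ ⧸ N), fun x => ?_⟩⟩
  induction x using QuotientGroup.induction_on with
  | H g =>
    obtain ⟨n, hn, i, rfl⟩ := exists_eq_mul_zpow htop g
    refine ⟨i, ?_⟩
    rw [QuotientGroup.mk_mul, (QuotientGroup.eq_one_iff n).mpr hn, one_mul, QuotientGroup.mk_zpow]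

/-- An invariant irreducible character of `N` extends to `Γ`. -/
theorem exists_ext (htop : N ⊔ Subgroup.zpowers s = ⊤) (θ : IrrCharacter N)
    (hinv : conjBy N (θ : N → ℂ) s = θ) :
    ∃ η : IrrCharacter Γ, ∀ n : N, (η : Γ → ℂ) n = (θ : N → ℂ) n := by
  obtain ⟨η, hη, he⟩ := extends_of_cyclic N θ.2 (invariant_of_fixed htop
    (isClassFunction_of_isCharacter (isCharacter_of_isIrr θ.2)) hinv) (isCyclic_quotient N htop)
  exact ⟨⟨η, hη⟩, he⟩

/-- On the coset of the generator an irreducible character is zero or proportional to any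
extension of its invariant constituent. -/
theorem coset_cases (htop : N ⊔ Subgroup.zpowers s = ⊤) (ω : IrrCharacter Γ) :
    (∀ n : N, (ω : Γ → ℂ) ((n : Γ) * s) = 0) ∨
      ∃ θ : IrrCharacter N, conjBy N (θ : N → ℂ) s = θ ∧
        ∀ η : IrrCharacter Γ, (∀ n : N, (η : Γ → ℂ) n = (θ : N → ℂ) n) →
          ∃ z : ℂ, ∀ n : N, (ω : Γ → ℂ) ((n : Γ) * s) = z * (η : Γ → ℂ) ((n : Γ) * s) := by
  classical
  obtain ⟨θ, hcon⟩ := exists_constituent N (isCharacter_of_isIrr ω.2) (irr_degree_ne_zero ω.2)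
  by_cases hinv : conjBy N (θ : N → ℂ) s = θ
  · refine Or.inr ⟨θ, hinv, fun η hη => ?_⟩
    have hinv' := invariant_of_fixed htop
      (isClassFunction_of_isCharacter (isCharacter_of_isIrr θ.2)) hinv
    have h1 : (fun _ : N => (1 : ℂ)) * (θ : N → ℂ) = θ := funext fun n => one_mul ((θ : N → ℂ) n)
    have hbij := gallagher N (φ := fun _ : N => (1 : ℂ)) (θ := (θ : N → ℂ)) isIrrCharacter_one
      (fun g => rfl) hinv' (by rw [h1]; exact θ.2) η.2 hη
    rw [h1] at hbij
    obtain ⟨b, ⟨hb, hbn⟩, e⟩ := hbij.surjOn (show (ω : Γ → ℂ) ∈ {ψ : Γ → ℂ | IsIrrCharacter Γ ψ ∧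
        classInner (indFun N (θ : N → ℂ)) ψ ≠ 0} from ⟨ω.2, by
      rw [frobenius_reciprocity N _ (isClassFunction_of_isCharacter (isCharacter_of_isIrr ω.2))]
      intro h0
      apply hcon
      rw [← classInner_conj_symm, h0, map_zero]⟩)
    refine ⟨b s, fun n => ?_⟩
    rcases avgN_dichotomy N hb with ⟨-, hc⟩ | ⟨h0, -⟩
    · rw [← e]
      simp [hc n s]
    · exfalso
      apply hbn
      rw [frobenius_reciprocity N _ (isClassFunction_of_isCharacter (isCharacter_of_isIrr hb)),
        show classInner (fun _ : N => (1 : ℂ)) (fun n : N => b n) = conj (avgN N b 1) by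
          simp [classInner, avgN],
        h0, Pi.zero_apply, map_zero]
  · left
    intro n
    haveI := Fintype.ofFinite (inertia N (θ : N → ℂ))
    have hθc := isClassFunction_of_isCharacter (isCharacter_of_isIrr θ.2)
    obtain ⟨ψ, -, e, -⟩ := clifford_correspondence_surjective N (inertia N (θ : N → ℂ)) θ.2
      (fun g => mem_inertia N) (le_inertia N hθc) ω.2 hcon
    rw [← e]
    simp only [indFun]
    refine mul_eq_zero_of_right _
      (Finset.sum_eq_zero fun x _ => extendByZero_notMem _ _ fun hx => hinv ?_)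
    obtain ⟨m, hm, i, rfl⟩ := exists_eq_mul_zpow htop x
    have hconj : (m * s ^ i)⁻¹ * ((n : Γ) * s) * (m * s ^ i) * s⁻¹ ∈ N := by
      rw [show (m * s ^ i)⁻¹ * ((n : Γ) * s) * (m * s ^ i) * s⁻¹ =
        (s ^ i)⁻¹ * (m⁻¹ * ((n : Γ) * (s * m * s⁻¹))) * ((s ^ i)⁻¹)⁻¹ by group]
      exact hN.conj_mem _ (N.mul_mem (N.inv_mem hm) (N.mul_mem n.2 (hN.conj_mem m hm s))) _
    have h1 := (inertia N (θ : N → ℂ)).mul_mem
      ((inertia N (θ : N → ℂ)).inv_mem (le_inertia N hθc hconj)) hx
    rw [show ((m * s ^ i)⁻¹ * ((n : Γ) * s) * (m * s ^ i) * s⁻¹)⁻¹ *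
      ((m * s ^ i)⁻¹ * ((n : Γ) * s) * (m * s ^ i)) = s by group] at h1
    exact h1

/-- The average of a character over `N` is again a character. -/
theorem isCharacter_avgN {χ : Γ → ℂ} (hχ : IsCharacter Γ χ) : IsCharacter Γ (avgN N χ) := by
  classical
  rw [classFunction_expansion (isClassFunction_avgN N (isClassFunction_of_isCharacter hχ))]
  refine isCharacter_sum _ _ fun b _ => ?_
  rw [classInner_avgN]
  rcases avgN_dichotomy N b.2 with ⟨hb, -⟩ | ⟨hb, -⟩
  · rw [hb]
    obtain ⟨n, hn⟩ := exists_nat_classInner hχ (isCharacter_of_isIrr b.2)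
    rw [hn]
    exact isCharacter_natCast_smul (isCharacter_of_isIrr b.2) n
  · rw [hb, classInner_zero_right]
    simpa using isCharacter_natCast_smul (isCharacter_of_isIrr b.2) 0

/-- A coset average is an integer polynomial in a root of unity whose value at `1` is the average
over `N`. -/
theorem exists_poly {χ : Γ → ℂ} (hχ : IsCharacter Γ χ) {ω : ℂ}
    (hω : IsPrimitiveRoot ω (orderOf s)) :
    ∃ P : Polynomial ℤ, Polynomial.aeval ω P = avgN N χ s ∧
      ((P.eval 1 : ℤ) : ℂ) = avgN N χ 1 := by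
  classical
  obtain ⟨d, ρ, hρ⟩ := isCharacter_avgN N hχ
  obtain ⟨μ, hμ, hpow⟩ := character_pow_eq_sum ρ s
  haveI : NeZero (orderOf s) := ⟨(orderOf_pos s).ne'⟩
  choose j hj hje using fun i => hω.eq_pow_of_pow_eq_one (hμ i)
  refine ⟨∑ i, Polynomial.X ^ j i, ?_, ?_⟩
  · have h := hpow 1
    rw [pow_one, hρ] at h
    rw [h]
    simp [hje]
  · have h := hpow 0
    rw [pow_zero, hρ] at h
    rw [h]
    simp [Polynomial.eval_finsetSum]

/-- The coset average of a product is the inner product on the coset. -/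
theorem avgN_mul_conj (f g : Γ → ℂ) (x : Γ) :
    avgN N (fun y => f y * conj (g y)) x =
      classInner (fun n : N => f ((n : Γ) * x)) (fun n : N => g ((n : Γ) * x)) := rfl

end CfsgLib.Char.RelGlauberman
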