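import Cfsg.Agent.Lib.Char.RelGlauberman.Step

/-!
# The correspondence for a `p`-group modulo a normal subgroup of `p'`-index
-/

set_option autoImplicit false
set_option linter.style.haveILetI false
set_option linter.unusedSectionVars false

namespace CfsgLib.Char.RelGlauberman

open Cfsg CfsgLib.Char
open CfsgLib.Char.Glauberman (Inv res conjEquiv inv_sup inv_mono isCharacter_res not_dvd_of_sign)
open scoped ComplexConjugate CfsgLib.Char

variable {Γ : Type*} [Group Γ]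

/-- Conjugating an irreducible character by a normalising element. -/
def conjChar {C : Subgroup Γ} (γ : IrrCharacter C) {y : Γ}
    (hy : y ∈ Subgroup.normalizer (C : Set Γ)) : IrrCharacter C :=
  ⟨fun c => (γ : C → ℂ) (conjEquiv hy c), isIrrCharacter_comp_mulEquiv _ γ.2⟩

theorem conjChar_eq_self {C T : Subgroup Γ} {γ : IrrCharacter C} (h : Inv C T (γ : C → ℂ)) {y : Γ}
    (hy : y ∈ Subgroup.normalizer (C : Set Γ)) (hyT : y ∈ T) : conjChar γ hy = γ :=
  Subtype.ext (funext fun _ => h y hyT _ _ rfl)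

theorem classInner_conjChar {K C : Subgroup Γ} [Fintype C] (hCK : C ≤ K) {χ : K → ℂ} {y : Γ}
    (hyK : y ∈ Subgroup.normalizer (K : Set Γ)) (hyC : y ∈ Subgroup.normalizer (C : Set Γ))
    (γ : IrrCharacter C) :
    classInner (res hCK fun g => χ (conjEquiv hyK g)) (conjChar γ hyC : C → ℂ) =
      classInner (res hCK χ) (γ : C → ℂ) :=
  classInner_comp_mulEquiv (conjEquiv hyC) (res hCK χ) (γ : C → ℂ)

section Orbit

variable [Finite Γ] {p : ℕ} {P C : Subgroup Γ} [Fintype C]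

/-- An invariant weight summed over the characters that are not `P`-invariant is divisible by `p`. -/
theorem dvd_sum_not_inv (hp : p.Prime) (hP : IsPGroup p P)
    (hPC : P ≤ Subgroup.normalizer (C : Set Γ)) (f : IrrCharacter C → ℕ)
    (hf : ∀ (y : Γ) (hy : y ∈ P) (γ : IrrCharacter C), f (conjChar γ (hPC hy)) = f γ)
    [DecidablePred fun γ : IrrCharacter C => Inv C P (γ : C → ℂ)] :
    p ∣ ∑ γ ∈ Finset.univ.filter (fun γ : IrrCharacter C => ¬ Inv C P (γ : C → ℂ)), f γ := by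
  classical
  haveI := Fact.mk hp
  letI act : MulAction P (IrrCharacter C) :=
    { smul := fun y γ => conjChar γ (hPC (inv_mem y.2))
      one_smul := fun γ => Subtype.ext (funext fun c =>
        congrArg (γ : C → ℂ) (Subtype.ext (by simp)))
      mul_smul := fun a b γ => Subtype.ext (funext fun c =>
        congrArg (γ : C → ℂ) (Subtype.ext (by simp [mul_assoc]))) }
  rw [← Finset.sum_fiberwise_of_maps_to
    (t := (Finset.univ.filter fun γ : IrrCharacter C => ¬ Inv C P (γ : C → ℂ)).image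
      fun γ => (MulAction.orbit P γ).toFinset)
    (g := fun γ => (MulAction.orbit P γ).toFinset) (fun γ hγ => Finset.mem_image_of_mem _ hγ)]
  refine Finset.dvd_sum fun O hO => ?_
  obtain ⟨γ, hγ, rfl⟩ := Finset.mem_image.mp hO
  rw [Finset.mem_filter] at hγ
  have hfix : ∀ δ : IrrCharacter C, Inv C P (δ : C → ℂ) → ∀ y : P, y • δ = δ :=
    fun δ h y => conjChar_eq_self h _ (inv_mem y.2)
  have hset : ((Finset.univ.filter fun γ : IrrCharacter C => ¬ Inv C P (γ : C → ℂ)).filter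
      fun δ => (MulAction.orbit P δ).toFinset = (MulAction.orbit P γ).toFinset) =
      (MulAction.orbit P γ).toFinset := by
    ext δ
    simp only [Finset.mem_filter, Finset.mem_univ, true_and, Set.mem_toFinset, Set.toFinset_inj]
    refine ⟨fun h => h.2 ▸ MulAction.mem_orbit_self δ, fun h => ⟨fun hδ => hγ.2 ?_,
      MulAction.orbit_eq_iff.mpr h⟩⟩
    obtain ⟨y, rfl⟩ := h
    have h1 : y⁻¹ • y • γ = γ := inv_smul_smul y γ
    rw [hfix _ hδ] at h1
    exact h1 ▸ hδ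
  rw [hset, Finset.sum_congr rfl (g := fun _ => f γ), Finset.sum_const, smul_eq_mul]
  · obtain ⟨n, hn⟩ := hP.card_orbit γ
    rw [Set.toFinset_card, ← Nat.card_eq_fintype_card, hn]
    rcases n with _ | n
    · exfalso
      apply hγ.2
      rw [pow_zero] at hn
      have hsub : Subsingleton (MulAction.orbit P γ) := (Nat.card_eq_one_iff_unique.mp hn).1
      intro y hy g g' e
      have h1 : (⟨y, hy⟩ : P)⁻¹ • γ = γ := congrArg Subtype.val (Subsingleton.elim
        (⟨_, MulAction.mem_orbit γ (⟨y, hy⟩ : P)⁻¹⟩ : MulAction.orbit P γ)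
        ⟨γ, MulAction.mem_orbit_self γ⟩)
      have h2 := congrFun (congrArg Subtype.val h1) g
      refine Eq.trans (congrArg _ (Subtype.ext ?_)) h2
      simp [e]
    · exact dvd_mul_of_dvd_left (dvd_pow_self p n.succ_ne_zero) _
  · intro δ hδ
    obtain ⟨y, rfl⟩ := Set.mem_toFinset.mp hδ
    exact hf _ (inv_mem y.2) γ

/-- A weight invariant under `P` which is prime to `p` at exactly one `s`-invariant character is
prime to `p` at a `P`-invariant one. -/
theorem inv_of_unique (hp : p.Prime) (hP : IsPGroup p P)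
    (hPC : P ≤ Subgroup.normalizer (C : Set Γ)) (f : IrrCharacter C → ℕ)
    (hf : ∀ (y : Γ) (hy : y ∈ P) (γ : IrrCharacter C), f (conjChar γ (hPC hy)) = f γ)
    {s : Γ} (hs : s ∈ P) {β : IrrCharacter C} (hβ : Inv C (Subgroup.zpowers s) (β : C → ℂ))
    (hne : ¬ p ∣ f β)
    (huniq : ∀ γ : IrrCharacter C, Inv C (Subgroup.zpowers s) (γ : C → ℂ) → γ ≠ β → p ∣ f γ) :
    Inv C P (β : C → ℂ) := by
  classical
  by_contra hβP
  apply hne
  have hsP : Subgroup.zpowers s ≤ P := Subgroup.zpowers_le.mpr hs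
  have hP1 := dvd_sum_not_inv hp hP hPC f hf
  have hs1 := dvd_sum_not_inv hp (hP.to_le hsP) (hsP.trans hPC) f fun y hy γ => hf y (hsP hy) γ
  have hfixP : p ∣ ∑ γ ∈ Finset.univ.filter (fun γ : IrrCharacter C => Inv C P (γ : C → ℂ)), f γ :=
    Finset.dvd_sum fun γ hγ => huniq γ (inv_mono hsP (Finset.mem_filter.mp hγ).2)
      fun e => hβP (e ▸ (Finset.mem_filter.mp hγ).2)
  have htot : p ∣ ∑ γ, f γ := by
    rw [← Finset.sum_filter_add_sum_filter_not Finset.univ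
      (fun γ : IrrCharacter C => Inv C P (γ : C → ℂ))]
    exact dvd_add hfixP hP1
  rw [← Finset.sum_filter_add_sum_filter_not Finset.univ
    (fun γ : IrrCharacter C => Inv C (Subgroup.zpowers s) (γ : C → ℂ))] at htot
  have h2 := (Nat.dvd_add_left hs1).mp htot
  rw [← Finset.add_sum_erase _ _ (show β ∈ Finset.univ.filter
    (fun γ : IrrCharacter C => Inv C (Subgroup.zpowers s) (γ : C → ℂ)) by simp [hβ])] at h2
  refine (Nat.dvd_add_left (Finset.dvd_sum fun γ hγ => ?_)).mp h2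
  rw [Finset.mem_erase, Finset.mem_filter] at hγ
  exact huniq γ hγ.2.2 hγ.1

end Orbit

/-- The elements of `K` whose commutators with `T` lie in `Q`. -/
def relFix (K T Q : Subgroup Γ) (hKQ : K ≤ Subgroup.normalizer (Q : Set Γ)) : Subgroup Γ where
  carrier := {k | k ∈ K ∧ ∀ x ∈ T, x * k * x⁻¹ * k⁻¹ ∈ Q}
  one_mem' := ⟨K.one_mem, fun x _ => by simp⟩
  mul_mem' := by
    rintro a b ⟨ha, ha'⟩ ⟨hb, hb'⟩
    refine ⟨K.mul_mem ha hb, fun x hx => ?_⟩
    rw [show x * (a * b) * x⁻¹ * (a * b)⁻¹ =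
      (x * a * x⁻¹ * a⁻¹) * (a * (x * b * x⁻¹ * b⁻¹) * a⁻¹) by group]
    exact mul_mem (ha' x hx) ((Subgroup.mem_normalizer_iff.mp (hKQ ha) _).mp (hb' x hx))
  inv_mem' := by
    rintro a ⟨ha, ha'⟩
    refine ⟨K.inv_mem ha, fun x hx => ?_⟩
    rw [show x * a⁻¹ * x⁻¹ * a⁻¹⁻¹ = a⁻¹ * (x * a * x⁻¹ * a⁻¹)⁻¹ * a⁻¹⁻¹ by group]
    exact (Subgroup.mem_normalizer_iff.mp (hKQ (K.inv_mem ha)) _).mp (inv_mem (ha' x hx))

theorem relFix_conj_mem {K T Q : Subgroup Γ} (hKQ : K ≤ Subgroup.normalizer (Q : Set Γ)) {y : Γ}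
    (hyK : y ∈ Subgroup.normalizer (K : Set Γ)) (hyT : y ∈ Subgroup.normalizer (T : Set Γ))
    (hyQ : y ∈ Subgroup.normalizer (Q : Set Γ)) :
    y ∈ Subgroup.normalizer (relFix K T Q hKQ : Set Γ) := by
  refine Subgroup.mem_normalizer_iff.mpr fun k => ?_
  show (k ∈ K ∧ _) ↔ (y * k * y⁻¹ ∈ K ∧ _)
  refine and_congr (Subgroup.mem_normalizer_iff.mp hyK k) ⟨fun h x hx => ?_, fun h x hx => ?_⟩
  · have hx' : y⁻¹ * x * y ∈ T := (Subgroup.mem_normalizer_iff''.mp hyT x).mp hx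
    rw [show x * (y * k * y⁻¹) * x⁻¹ * (y * k * y⁻¹)⁻¹ =
      y * ((y⁻¹ * x * y) * k * (y⁻¹ * x * y)⁻¹ * k⁻¹) * y⁻¹ by group]
    exact (Subgroup.mem_normalizer_iff.mp hyQ _).mp (h _ hx')
  · have h' := h _ ((Subgroup.mem_normalizer_iff.mp hyT x).mp hx)
    rw [show y * x * y⁻¹ * (y * k * y⁻¹) * (y * x * y⁻¹)⁻¹ * (y * k * y⁻¹)⁻¹ =
      y * (x * k * x⁻¹ * k⁻¹) * y⁻¹ by group] at h'
    exact (Subgroup.mem_normalizer_iff.mp hyQ _).mpr h'

variable [Fintype Γ] {p : ℕ}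

theorem IsRelCorr.multiplicity (hp : p.Prime) {K C T : Subgroup Γ} [Fintype K] [Fintype C]
    {hCK : C ≤ K} {χ : K → ℂ} (hχ : IsCharacter K χ) {β : IrrCharacter C}
    (h : IsRelCorr p hCK T χ β) (hβ : Inv C T (β : C → ℂ)) :
    ∃ m : ℕ, classInner (res hCK χ) (β : C → ℂ) = m ∧ ¬ p ∣ m := by
  obtain ⟨m, hm⟩ := exists_nat_classInner (isCharacter_res hCK hχ) (isCharacter_of_isIrr β.2)
  exact ⟨m, hm, not_dvd_of_sign hp ((h β hβ m hm).2 rfl)⟩

/-- The correspondence for a `p`-group. -/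
theorem hasRelCorr_of_isPGroup (hp : p.Prime) {K Q : Subgroup Γ} [instK : Fintype K] (hQK : Q ≤ K)
    (hKQ : K ≤ Subgroup.normalizer (Q : Set Γ)) (hQ : ¬ p ∣ Q.relIndex K) :
    ∀ (n : ℕ) (P : Subgroup Γ), Nat.card P = n → P ≤ Subgroup.normalizer (K : Set Γ) →
      P ≤ Subgroup.normalizer (Q : Set Γ) → IsPGroup p P →
      ∀ (C : Subgroup Γ) [Fintype C] (hCK : C ≤ K), C = relFix K P Q hKQ →
        HasRelCorr p K P C hCK := by
  classical
  haveI := Fact.mk hp
  intro n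
  induction n using Nat.strong_induction_on with
  | _ n ih =>
  intro P hn hPK hPQ hpP C instC hCK hC
  by_cases hbot : P = ⊥
  · subst hbot
    have e : C = K := by
      rw [hC]
      refine le_antisymm (fun k hk => hk.1) fun k hk => ⟨hk, fun x hx => ?_⟩
      rw [Subgroup.mem_bot] at hx
      simp [hx]
    subst e
    obtain rfl : instC = instK := Subsingleton.elim _ _
    refine ⟨fun χ => χ, Function.bijective_id, fun χ γ _ m hm => ?_⟩
    rw [show res hCK ((χ.1 : IrrCharacter C) : C → ℂ) = χ.1 from rfl,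
      classInner_irr χ.1.2 γ.2] at hm
    refine ⟨fun hne => ?_, fun heq => ?_⟩
    · rw [if_neg fun e => hne (Subtype.ext e.symm)] at hm
      rw [Nat.cast_eq_zero.mp hm.symm]; exact dvd_zero p
    · rw [if_pos (congrArg Subtype.val heq.symm)] at hm
      rw [Nat.cast_eq_one.mp hm.symm]; exact Or.inl rfl
  -- a maximal subgroup of `P`
  obtain ⟨a, ha⟩ := IsPGroup.iff_card.mp hpP
  have ha0 : a ≠ 0 := by
    rintro rfl
    exact hbot (Subgroup.eq_bot_of_card_eq P (by simpa using ha))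
  obtain ⟨b, rfl⟩ := Nat.exists_eq_succ_of_ne_zero ha0
  obtain ⟨T0, hT0⟩ := Sylow.exists_subgroup_card_pow_prime p (G := P) (n := b)
    (by rw [ha]; exact pow_dvd_pow p (Nat.le_succ b))
  set T := T0.map P.subtype with hT
  have hTP : T ≤ P := Subgroup.map_subtype_le T0
  have hTc : Nat.card T = p ^ b := by
    rw [hT, Subgroup.card_map_of_injective P.subtype_injective, hT0]
  obtain ⟨s, hsP, hsT⟩ : ∃ s ∈ P, s ∉ T := by
    by_contra h
    push Not at h
    rw [le_antisymm hTP h, ha] at hTc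
    exact absurd (Nat.pow_right_injective hp.two_le hTc) (Nat.succ_ne_self b)
  have hsup : T ⊔ Subgroup.zpowers s = P := by
    refine Subgroup.eq_of_le_of_card_ge (sup_le hTP (Subgroup.zpowers_le.mpr hsP)) ?_
    obtain ⟨c, hc⟩ := IsPGroup.iff_card.mp
      (hpP.to_le (sup_le hTP (Subgroup.zpowers_le.mpr hsP) : T ⊔ Subgroup.zpowers s ≤ P))
    have hlt : Nat.card T < Nat.card ↥(T ⊔ Subgroup.zpowers s) := by
      refine lt_of_le_of_ne (Subgroup.card_le_of_le le_sup_left) fun e => hsT ?_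
      have := Subgroup.eq_of_le_of_card_ge (le_sup_left : T ≤ T ⊔ Subgroup.zpowers s) e.ge
      exact this ▸ Subgroup.mem_sup_right (Subgroup.mem_zpowers s)
    rw [hTc, hc] at hlt
    rw [ha, hc]
    exact Nat.pow_le_pow_right hp.pos ((Nat.pow_lt_pow_iff_right hp.one_lt).mp hlt)
  have hTn : P ≤ Subgroup.normalizer (T : Set Γ) := by
    haveI : Finite P := inferInstance
    have hn0 : T0.Normal := by
      refine Subgroup.normal_of_index_eq_minFac_card ?_
      have := T0.card_mul_index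
      rw [hT0, ha, pow_succ] at this
      rw [ha, Nat.pow_minFac (Nat.succ_ne_zero b), hp.minFac_eq]
      exact Nat.eq_of_mul_eq_mul_left (pow_pos hp.pos b) this
    intro y hy
    refine Subgroup.mem_normalizer_iff.mpr fun x => ⟨?_, fun hx => ?_⟩
    · rintro ⟨t, ht, rfl⟩
      exact ⟨_, hn0.conj_mem t ht ⟨y, hy⟩, rfl⟩
    · obtain ⟨t, ht, he⟩ := hx
      refine ⟨_, hn0.conj_mem t ht ⟨y, hy⟩⁻¹, ?_⟩
      have he' : (t : Γ) = y * x * y⁻¹ := he
      simp [he', mul_assoc]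
  set C1 := relFix K T Q hKQ with hC1
  haveI := Fintype.ofFinite C1
  have hC1K : C1 ≤ K := fun k hk => hk.1
  have hnC1 : P ≤ Subgroup.normalizer (C1 : Set Γ) :=
    fun y hy => relFix_conj_mem hKQ (hPK hy) (hTn hy) (hPQ hy)
  have hnC : P ≤ Subgroup.normalizer (C : Set Γ) := hC ▸
    fun y hy => relFix_conj_mem hKQ (hPK hy) (Subgroup.le_normalizer hy) (hPQ hy)
  have hQC1 : Q ≤ C1 := fun q hq => ⟨hQK hq, fun x hx =>
    mul_mem ((Subgroup.mem_normalizer_iff.mp (hPQ (hTP hx)) q).mp hq) (inv_mem hq)⟩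
  obtain ⟨F1, hF1, hI1⟩ := ih (Nat.card T) (by
      rw [← hn, hTc, ha]; exact Nat.pow_lt_pow_right hp.one_lt (Nat.lt_succ_self b))
    T rfl (hTP.trans hPK) (hTP.trans hPQ) (hpP.to_le hTP) C1 hC1K rfl
  obtain ⟨k, hk⟩ : ∃ k, orderOf s = p ^ k := by
    obtain ⟨k, hk⟩ := IsPGroup.iff_orderOf.mp hpP ⟨s, hsP⟩
    exact ⟨k, (Subgroup.orderOf_coe (⟨s, hsP⟩ : P)).trans hk⟩
  have hQ1 : ¬ p ∣ Q.relIndex C1 := fun h =>
    hQ (h.trans (Dvd.intro _ (Subgroup.relIndex_mul_relIndex Q C1 K hQC1 hC1K)))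
  have S : Setting p C1 Q C s :=
    { hs := hnC1 hsP
      hsQ := hPQ hsP
      hQK := hQC1
      hKQ := hC1K.trans hKQ
      hcop := by
        rw [hk]
        exact Nat.Coprime.pow_right k ((hp.coprime_iff_not_dvd).mpr hQ1).symm
      hord := ⟨k, hk⟩
      mem_iff := fun c => by
        rw [hC]
        refine ⟨fun h => ⟨⟨h.1, fun x hx => h.2 x (hTP hx)⟩, h.2 s hsP⟩, fun h => ⟨h.1.1, ?_⟩⟩
        let R : Subgroup Γ :=
          { carrier := {x | x ∈ Subgroup.normalizer (Q : Set Γ) ∧ x * c * x⁻¹ * c⁻¹ ∈ Q}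
            one_mem' := ⟨Subgroup.one_mem _, by simp⟩
            mul_mem' := by
              rintro x y ⟨hx, hx'⟩ ⟨hy, hy'⟩
              refine ⟨mul_mem hx hy, ?_⟩
              rw [show x * y * c * (x * y)⁻¹ * c⁻¹ =
                (x * (y * c * y⁻¹ * c⁻¹) * x⁻¹) * (x * c * x⁻¹ * c⁻¹) by group]
              exact mul_mem ((Subgroup.mem_normalizer_iff.mp hx _).mp hy') hx'
            inv_mem' := by
              rintro x ⟨hx, hx'⟩
              refine ⟨inv_mem hx, ?_⟩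
              rw [show x⁻¹ * c * x⁻¹⁻¹ * c⁻¹ = x⁻¹ * (x * c * x⁻¹ * c⁻¹)⁻¹ * x⁻¹⁻¹ by group]
              exact (Subgroup.mem_normalizer_iff.mp (inv_mem hx) _).mp (inv_mem hx') }
        have hle : T ⊔ Subgroup.zpowers s ≤ R :=
          sup_le (fun t ht => ⟨hPQ (hTP ht), h.1.2 t ht⟩)
            (Subgroup.zpowers_le.mpr ⟨hPQ hsP, h.2⟩)
        exact fun x hx => (hle (hsup.symm ▸ hx)).2 }
  obtain ⟨F2, hF2, hI2⟩ := S.hasRelCorr hp
  have hCC1 : C ≤ C1 := S.le
  -- invariance under `P` from `T` and `s`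
  have inv_P : ∀ {D : Subgroup Γ} (hD : P ≤ Subgroup.normalizer (D : Set Γ)) {φ : D → ℂ},
      Inv D T φ → Inv D (Subgroup.zpowers s) φ → Inv D P φ := by
    intro D hD φ h1 h2
    have := inv_sup (hTP.trans hD) (hD hsP) h1
      (funext fun g => h2 s (Subgroup.mem_zpowers s) _ _ rfl)
    rwa [hsup] at this
  -- the first correspondence commutes with `s`
  have equiv : ∀ χ : {χ : IrrCharacter K // Inv K T (χ : K → ℂ)},
      Inv K P (χ.1 : K → ℂ) ↔ Inv C1 P ((F1 χ).1 : C1 → ℂ) := by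
    intro χ
    set χ' : {χ : IrrCharacter K // Inv K T (χ : K → ℂ)} :=
      ⟨conjChar χ.1 (hPK hsP), fun t ht g g' e => χ.2 (s * t * s⁻¹)
        ((Subgroup.mem_normalizer_iff.mp (hTn hsP) t).mp ht) _ _ (by simp [e, mul_assoc])⟩ with hχ'
    have hinvs : Inv C1 T (conjChar (F1 χ).1 (hnC1 hsP) : C1 → ℂ) := fun t ht g g' e =>
      (F1 χ).2 (s * t * s⁻¹) ((Subgroup.mem_normalizer_iff.mp (hTn hsP) t).mp ht) _ _
        (by simp [e, mul_assoc])
    have hF : (F1 χ').1 = conjChar (F1 χ).1 (hnC1 hsP) := by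
      obtain ⟨m, hm, hnd⟩ := (hI1 χ).multiplicity hp (isCharacter_of_isIrr χ.1.2) (F1 χ).2
      by_contra hne
      exact hnd ((hI1 χ' _ hinvs m
        (Eq.trans (classInner_conjChar hC1K (hPK hsP) (hnC1 hsP) (F1 χ).1) hm)).1
          (fun e => hne e.symm))
    refine ⟨fun h => ?_, fun h => ?_⟩
    · have e : χ' = χ := Subtype.ext (conjChar_eq_self h _ hsP)
      rw [e] at hF
      refine inv_P hnC1 (F1 χ).2 ((inv_zpowers_iff (hnC1 hsP)).mpr fun g => ?_)
      exact congrFun (congrArg Subtype.val hF.symm) g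
    · have e : χ' = χ := hF1.1 (Subtype.ext (hF.trans (conjChar_eq_self h _ hsP)))
      refine inv_P hPK χ.2 ((inv_zpowers_iff (hPK hsP)).mpr fun g => ?_)
      exact congrFun (congrArg (fun x => ((x.1 : IrrCharacter K) : K → ℂ)) e) g
  -- multiplicities between `C1` and `C`
  choose q hq using fun (γ : IrrCharacter C1) (β : IrrCharacter C) => exists_nat_classInner
    (isCharacter_res hCC1 (isCharacter_of_isIrr γ.2)) (isCharacter_of_isIrr β.2)
  have hqc : ∀ (y : Γ) (hy : y ∈ P) γ β,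
      q (conjChar γ (hnC1 hy)) (conjChar β (hnC hy)) = q γ β := fun y hy γ β => by
    have := (hq (conjChar γ (hnC1 hy)) (conjChar β (hnC hy))).symm.trans
      ((classInner_conjChar hCC1 (hnC1 hy) (hnC hy) β).trans (hq γ β))
    exact Nat.cast_injective this
  have hsP' : Subgroup.zpowers s ≤ P := Subgroup.zpowers_le.mpr hsP
  have mapsP : ∀ γ : {γ : IrrCharacter C1 // Inv C1 (Subgroup.zpowers s) (γ : C1 → ℂ)},
      Inv C1 P (γ.1 : C1 → ℂ) ↔ Inv C P ((F2 γ).1 : C → ℂ) := by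
    intro γ
    have hnd : ¬ p ∣ q γ.1 (F2 γ).1 := not_dvd_of_sign hp ((hI2 γ _ (F2 γ).2 _ (hq _ _)).2 rfl)
    refine ⟨fun h => ?_, fun h => ?_⟩
    · refine inv_of_unique hp hpP hnC (fun β => q γ.1 β) (fun y hy β => ?_) hsP (F2 γ).2 hnd
        fun β hβ hne => (hI2 γ β hβ _ (hq _ _)).1 hne
      conv_lhs => rw [← conjChar_eq_self h (hnC1 hy) hy]
      exact hqc y hy γ.1 β
    · refine inv_of_unique hp hpP hnC1 (fun δ => q δ (F2 γ).1) (fun y hy δ => ?_) hsP γ.2 hnd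
        fun δ hδ hne => ?_
      · conv_lhs => rw [← conjChar_eq_self h (hnC hy) hy]
        exact hqc y hy δ (F2 γ).1
      · refine (hI2 ⟨δ, hδ⟩ _ (F2 γ).2 _ (hq _ _)).1 fun e => hne ?_
        exact congrArg Subtype.val (hF2.1 (Subtype.ext e : F2 γ = F2 ⟨δ, hδ⟩)).symm
  set lift : {χ : IrrCharacter K // Inv K P (χ : K → ℂ)} →
      {χ : IrrCharacter K // Inv K T (χ : K → ℂ)} := fun χ => ⟨χ.1, inv_mono hTP χ.2⟩ with hlift
  set mid : {χ : IrrCharacter K // Inv K P (χ : K → ℂ)} →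
      {γ : IrrCharacter C1 // Inv C1 (Subgroup.zpowers s) (γ : C1 → ℂ)} :=
    fun χ => ⟨(F1 (lift χ)).1, inv_mono hsP' ((equiv (lift χ)).mp χ.2)⟩ with hmid
  refine ⟨fun χ => ⟨(F2 (mid χ)).1, (mapsP (mid χ)).mp ((equiv (lift χ)).mp χ.2)⟩,
    ⟨fun χ χ' e => ?_, fun β => ?_⟩, fun χ β hβ n hn => ?_⟩
  · have h1 : F2 (mid χ) = F2 (mid χ') :=
      Subtype.ext (congrArg (fun x : {γ : IrrCharacter C // Inv C P (γ : C → ℂ)} => x.1) e)
    have h := hF1.1 (Subtype.ext (congrArg (fun x : {γ : IrrCharacter C1 //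
      Inv C1 (Subgroup.zpowers s) (γ : C1 → ℂ)} => x.1) (hF2.1 h1)) : F1 (lift χ) = F1 (lift χ'))
    exact Subtype.ext (congrArg (fun x : {χ : IrrCharacter K // Inv K T (χ : K → ℂ)} => x.1) h)
  · obtain ⟨γ, hγ⟩ := hF2.2 ⟨β.1, inv_mono hsP' β.2⟩
    have hγP : Inv C1 P (γ.1 : C1 → ℂ) := (mapsP γ).mpr (by rw [hγ]; exact β.2)
    obtain ⟨χ, hχ⟩ := hF1.2 ⟨γ.1, inv_mono hTP hγP⟩
    refine ⟨⟨χ.1, (equiv χ).mpr (by rw [hχ]; exact hγP)⟩, Subtype.ext ?_⟩
    have e : mid ⟨χ.1, (equiv χ).mpr (by rw [hχ]; exact hγP)⟩ = γ :=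
      Subtype.ext (show (F1 χ).1 = γ.1 by rw [hχ])
    show (F2 _).1 = β.1
    rw [e, hγ]
  · set γ0 := F1 (lift χ) with hγ0
    obtain ⟨m, hm⟩ := exists_multiplicities
      (isCharacter_res hC1K (isCharacter_of_isIrr χ.1.2))
    have hmγ : ∀ γ : IrrCharacter C1,
        classInner (res hC1K ((χ.1 : IrrCharacter K) : K → ℂ)) (γ : C1 → ℂ) = m γ := fun γ => by
      rw [hm, classInner_sum_smul_irr]
    have hn' : n = ∑ γ, m γ * q γ β := by
      have e : res hCK ((χ.1 : IrrCharacter K) : K → ℂ) =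
          ∑ γ : IrrCharacter C1, (m γ : ℂ) • res hCC1 (γ : C1 → ℂ) := by
        funext c
        have := congrFun hm ⟨c, hCC1 c.2⟩
        simpa [res, Finset.sum_apply] using this
      rw [e, classInner_sum_left] at hn
      simp only [classInner_smul_left, hq] at hn
      exact_mod_cast hn.symm
    have hinvf : ∀ (y : Γ) (hy : y ∈ T) (γ : IrrCharacter C1),
        m (conjChar γ ((hTP.trans hnC1) hy)) * q (conjChar γ ((hTP.trans hnC1) hy)) β =
          m γ * q γ β := by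
      intro y hy γ
      congr 1
      · have h1 := classInner_conjChar hC1K (χ := ((χ.1 : IrrCharacter K) : K → ℂ))
          (hPK (hTP hy)) (hnC1 (hTP hy)) γ
        rw [show (fun g => ((χ.1 : IrrCharacter K) : K → ℂ) (conjEquiv (hPK (hTP hy)) g)) =
          (χ.1 : K → ℂ) from funext fun g => χ.2 y (hTP hy) _ _ rfl, hmγ, hmγ] at h1
        exact Nat.cast_injective h1
      · conv_lhs => rw [← conjChar_eq_self hβ (hnC (hTP hy)) (hTP hy)]
        exact hqc y (hTP hy) γ β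
    have hsum : ((∑ γ, m γ * q γ β : ℕ) : ℤ) ≡ ((m γ0.1 * q γ0.1 β : ℕ) : ℤ) [ZMOD p] := by
      rw [← Finset.sum_filter_add_sum_filter_not Finset.univ
        (fun γ : IrrCharacter C1 => Inv C1 T (γ : C1 → ℂ)),
        ← Finset.add_sum_erase _ _ (show γ0.1 ∈ Finset.univ.filter
          (fun γ : IrrCharacter C1 => Inv C1 T (γ : C1 → ℂ)) by simp [γ0.2])]
      have h0 : p ∣ ∑ γ ∈ (Finset.univ.filter fun γ : IrrCharacter C1 =>
          Inv C1 T (γ : C1 → ℂ)).erase γ0.1, m γ * q γ β := Finset.dvd_sum fun γ hγ => by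
        rw [Finset.mem_erase, Finset.mem_filter] at hγ
        exact dvd_mul_of_dvd_left ((hI1 (lift χ) γ hγ.2.2 _ (hmγ γ)).1 hγ.1) _
      have h1 := dvd_sum_not_inv hp (hpP.to_le hTP) (hTP.trans hnC1) (fun γ => m γ * q γ β) hinvf
      rw [add_assoc, Nat.cast_add]
      conv_rhs => rw [← add_zero (((m γ0.1 * q γ0.1 β : ℕ) : ℤ))]
      exact Int.ModEq.add_left _ (Int.modEq_zero_iff_dvd.mpr
        (Int.natCast_dvd_natCast.mpr (dvd_add h0 h1)))
    rw [← hn'] at hsum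
    obtain ⟨h2a, h2b⟩ := hI2 (mid χ) β (inv_mono hsP' hβ) (q γ0.1 β) (hq γ0.1 β)
    refine ⟨fun hne => ?_, fun heq => ?_⟩
    · have h3 := hsum.trans (Int.modEq_zero_iff_dvd.mpr
        (Int.natCast_dvd_natCast.mpr (dvd_mul_of_dvd_right (h2a hne) _)))
      exact Int.natCast_dvd_natCast.mp (Int.modEq_zero_iff_dvd.mp h3)
    · push_cast at hsum
      rcases (hI1 (lift χ) γ0.1 γ0.2 _ (hmγ γ0.1)).2 rfl with h1 | h1 <;>
        rcases h2b heq with h2 | h2 <;>
        [left; right; right; left] <;> exact hsum.trans (by simpa using h1.mul h2)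

end CfsgLib.Char.RelGlauberman
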