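import Mathlib

/-!
# Integer polynomials of unit total norm at a root of unity of prime power order
-/

set_option autoImplicit false
set_option linter.style.haveILetI false

namespace CfsgLib.Char.RelGlauberman

open Polynomial
open scoped ComplexConjugate

/-- If the values at a `p`-power root of unity have squared norms summing to `1`, exactly one of
them is nonzero and its value at `1` is `±1` modulo `p`, the other values at `1` being divisible by
`p`. -/
theorem rigid {p k : ℕ} (hp : p.Prime) {ω : ℂ} (hω : IsPrimitiveRoot ω (p ^ k)) {ι : Type*}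
    [Fintype ι] (P : ι → ℤ[X]) (h : ∑ i, aeval ω (P i) * conj (aeval ω (P i)) = 1) :
    ∃ i, aeval ω (P i) ≠ 0 ∧
      ((P i).eval 1 ≡ 1 [ZMOD p] ∨ (P i).eval 1 ≡ -1 [ZMOD p]) ∧
      ∀ j, j ≠ i → aeval ω (P j) = 0 ∧ (p : ℤ) ∣ (P j).eval 1 := by
  classical
  set m := p ^ k with hm
  have hm0 : 0 < m := pow_pos hp.pos k
  haveI : NeZero (m : ℂ) := ⟨Nat.cast_ne_zero.mpr hm0.ne'⟩
  have hmin := cyclotomic_eq_minpoly hω hm0
  have hdvd : ∀ Q : ℤ[X], aeval ω Q = 0 → cyclotomic m ℤ ∣ Q := fun Q hQ => by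
    rw [hmin]; exact minpoly.isIntegrallyClosed_dvd (hω.isIntegral hm0) hQ
  have hone : ∀ Q : ℤ[X], aeval ω Q = 0 → (p : ℤ) ∣ Q.eval 1 := fun Q hQ => by
    refine dvd_trans ?_ (eval_dvd (x := (1 : ℤ)) (hdvd Q hQ))
    rcases k with _ | k
    · simp [hm]
    · haveI := Fact.mk hp
      rw [hm, eval_one_cyclotomic_prime_pow]
  have hroot : ∀ Q : ℤ[X], aeval ω Q = 0 → ∀ ζ : ℂ, IsPrimitiveRoot ζ m → aeval ζ Q = 0 := by
    intro Q hQ ζ hζ
    obtain ⟨R, rfl⟩ := hdvd Q hQ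
    rw [map_mul, cyclotomic_eq_minpoly hζ hm0, minpoly.aeval, zero_mul]
  have hconj : ∀ (ζ : ℂ) (Q : ℤ[X]), IsPrimitiveRoot ζ m →
      conj (aeval ζ Q) = aeval (ζ ^ (m - 1)) Q := by
    intro ζ Q hζ
    have hn : ‖ζ‖ = 1 := Complex.norm_eq_one_of_pow_eq_one hζ.pow_eq_one hm0.ne'
    have h2 : conj ζ = ζ ^ (m - 1) := by
      rw [← Complex.inv_eq_conj hn]
      refine inv_eq_of_mul_eq_one_right ?_
      rw [← pow_succ', Nat.sub_add_cancel hm0, hζ.pow_eq_one]
    rw [← h2]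
    exact (aeval_algHom_apply ((starRingEnd ℂ).toIntAlgHom) ζ Q).symm
  set R : ℤ[X] := (∑ i, P i * (P i).comp (X ^ (m - 1))) - 1 with hR
  have hRω : aeval ω R = 0 := by
    simp only [hR, map_sub, map_sum, map_mul, aeval_comp, map_pow, aeval_X, map_one, ← hconj ω _ hω, h,
      sub_self]
  have hall : ∀ ζ : ℂ, IsPrimitiveRoot ζ m → ∑ i, ‖aeval ζ (P i)‖ ^ 2 = 1 := by
    intro ζ hζ
    have h1 := hroot R hRω ζ hζ
    simp only [hR, map_sub, map_sum, map_mul, aeval_comp, map_pow, aeval_X, map_one, ← hconj ζ _ hζ,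
      Complex.mul_conj', sub_eq_zero] at h1
    exact_mod_cast h1
  have hsum : ∑ i, ((P i).eval 1) * ((P i).eval 1) ≡ 1 [ZMOD p] := by
    refine (Int.modEq_iff_dvd.mpr ?_).symm
    have := hone R hRω
    simpa [hR, eval_sub, eval_finsetSum, eval_comp] using this
  obtain ⟨i, hi⟩ : ∃ i, aeval ω (P i) ≠ 0 := by
    by_contra h0
    push Not at h0
    simp [h0] at h
  have huniq : ∀ j, j ≠ i → aeval ω (P j) = 0 := by
    intro j hj
    by_contra hj0
    have hne : ∀ l, aeval ω (P l) ≠ 0 → ∀ ζ : ℂ, IsPrimitiveRoot ζ m → aeval ζ (P l) ≠ 0 := by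
      intro l hl ζ hζ h0
      obtain ⟨S, hS⟩ : cyclotomic m ℤ ∣ P l := by
        rw [cyclotomic_eq_minpoly hζ hm0]
        exact minpoly.isIntegrallyClosed_dvd (hζ.isIntegral hm0) h0
      exact hl (by rw [hS, map_mul, hmin, minpoly.aeval, zero_mul])
    have hlt : ∀ ζ : ℂ, IsPrimitiveRoot ζ m → ‖aeval ζ (P i)‖ < 1 := by
      intro ζ hζ
      have h1 := hall ζ hζ
      have h2 : ‖aeval ζ (P i)‖ ^ 2 + ‖aeval ζ (P j)‖ ^ 2 ≤ 1 := by
        rw [← h1, ← Finset.sum_pair (f := fun l => ‖aeval ζ (P l)‖ ^ 2) hj.symm]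
        exact Finset.sum_le_sum_of_subset_of_nonneg (Finset.subset_univ _)
          fun l _ _ => sq_nonneg _
      have h3 : 0 < ‖aeval ζ (P j)‖ := norm_pos_iff.mpr (hne j hj0 ζ hζ)
      have h4 : ‖aeval ζ (P i)‖ ^ 2 < 1 := by nlinarith
      exact lt_of_pow_lt_pow_left₀ 2 zero_le_one (by simpa using h4)
    set Φ := cyclotomic m ℤ with hΦ
    set ψ := Int.castRingHom ℂ with hψ
    have hΦmap : Φ.map ψ = cyclotomic m ℂ := map_cyclotomic_int m ℂ
    have hprod : ((resultant Φ (P i) : ℤ) : ℂ) =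
        ∏ ζ ∈ primitiveRoots m ℂ, aeval ζ (P i) := by
      have h1 := resultant_map_map Φ (P i) Φ.natDegree (P i).natDegree ψ
      have h2 := resultant_eq_prod_eval (Φ.map ψ) ((P i).map ψ) (P i).natDegree natDegree_map_le
        (IsAlgClosed.splits _)
      rw [(cyclotomic.monic m ℤ).natDegree_map ψ, h1, ((cyclotomic.monic m ℤ).map ψ).leadingCoeff,
        one_pow, one_mul, hΦmap, cyclotomic.roots_eq_primitiveRoots_val] at h2
      refine h2.trans (congrArg Multiset.prod (Multiset.map_congr rfl fun ζ _ => ?_))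
      rw [eval_map, aeval_def]
      rfl
    have hne0 : (resultant Φ (P i) : ℤ) ≠ 0 := by
      intro h0
      rw [h0, Int.cast_zero] at hprod
      obtain ⟨ζ, hζ, hζ0⟩ := Finset.prod_eq_zero_iff.mp hprod.symm
      exact hne i hi ζ ((mem_primitiveRoots hm0).mp hζ) hζ0
    have hn := congrArg (‖·‖) hprod
    simp only [Complex.norm_intCast, norm_prod] at hn
    have h5 : ∏ ζ ∈ primitiveRoots m ℂ, ‖aeval ζ (P i)‖ < ∏ ζ ∈ primitiveRoots m ℂ, (1 : ℝ) :=
      Finset.prod_lt_prod (fun ζ hζ => norm_pos_iff.mpr (hne i hi ζ ((mem_primitiveRoots hm0).mp hζ)))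
        (fun ζ hζ => (hlt ζ ((mem_primitiveRoots hm0).mp hζ)).le)
        ⟨ω, (mem_primitiveRoots hm0).mpr hω, hlt ω hω⟩
    rw [Finset.prod_const_one, ← hn] at h5
    have h6 : (1 : ℤ) ≤ |resultant Φ (P i)| := abs_pos.mpr hne0
    have h7 : (1 : ℝ) ≤ |((resultant Φ (P i) : ℤ) : ℝ)| := by exact_mod_cast h6
    linarith
  refine ⟨i, hi, ?_, fun j hj => ⟨huniq j hj, hone _ (huniq j hj)⟩⟩
  rw [← Finset.add_sum_erase _ _ (Finset.mem_univ i)] at hsum
  have h0 : (p : ℤ) ∣ ∑ j ∈ Finset.univ.erase i, (P j).eval 1 * (P j).eval 1 :=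
    Finset.dvd_sum fun j hj => dvd_mul_of_dvd_left
      (hone _ (huniq j (Finset.ne_of_mem_erase hj))) _
  have h1 : (p : ℤ) ∣ ((P i).eval 1 - 1) * ((P i).eval 1 + 1) := by
    have h2 := Int.modEq_iff_dvd.mp hsum.symm
    have h3 := dvd_sub h2 h0
    convert h3 using 1
    all_goals first | rfl | ring
  rcases (Nat.prime_iff_prime_int.mp hp).dvd_or_dvd h1 with h2 | h2
  · exact Or.inl (Int.modEq_iff_dvd.mpr h2).symm
  · exact Or.inr (Int.modEq_iff_dvd.mpr (by rwa [sub_neg_eq_add])).symm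

end CfsgLib.Char.RelGlauberman
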