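import Cfsg.Agent.Lib.Char.RelGlauberman.Sup
import Cfsg.Agent.Lib.Char.RelGlauberman.Rigid

/-!
# The correspondence for one element of `p`-power order modulo a normal subgroup of `p'`-index

`s` normalises `K` and `Q ⊴ K` with `[K : Q]` prime to `orderOf s = p ^ k`, and
`C = {c ∈ K | [s, c] ∈ Q}`. On the coset of `s` the extensions of the `s`-invariant irreducible
characters of `K` are multiples of the extensions of those of `C`.
-/

set_option autoImplicit false
set_option linter.style.haveILetI false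
set_option linter.unusedSectionVars false

namespace CfsgLib.Char.RelGlauberman

open Cfsg CfsgLib.Char CfsgLib.Char.Canonical
open CfsgLib.Char.Glauberman (Inv res conjEquiv inv_sup isCharacter_res)
open scoped ComplexConjugate CfsgLib.Char

variable {Γ : Type*} [Group Γ]

/-- The correspondent, recorded through multiplicities of `T`-invariant constituents modulo `p`. -/
def IsRelCorr (p : ℕ) {K C : Subgroup Γ} [Fintype C] (hCK : C ≤ K) (T : Subgroup Γ) (χ : K → ℂ)
    (β : IrrCharacter C) : Prop :=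
  ∀ γ : IrrCharacter C, Inv C T (γ : C → ℂ) → ∀ m : ℕ,
    classInner (res hCK χ) (γ : C → ℂ) = m →
      (γ ≠ β → p ∣ m) ∧ (γ = β → ((m : ℤ) ≡ 1 [ZMOD p] ∨ (m : ℤ) ≡ -1 [ZMOD p]))

/-- The bijection package. -/
def HasRelCorr (p : ℕ) (K T C : Subgroup Γ) [Fintype C] (hCK : C ≤ K) : Prop :=
  ∃ F : {χ : IrrCharacter K // Inv K T (χ : K → ℂ)} → {γ : IrrCharacter C // Inv C T (γ : C → ℂ)},
    Function.Bijective F ∧
      ∀ χ, IsRelCorr p hCK T ((χ.1 : IrrCharacter K) : K → ℂ) (F χ).1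

variable {K Q C : Subgroup Γ} {s : Γ}

/-- The hypotheses of one step. -/
structure Setting (p : ℕ) (K Q C : Subgroup Γ) (s : Γ) : Prop where
  hs : s ∈ Subgroup.normalizer (K : Set Γ)
  hsQ : s ∈ Subgroup.normalizer (Q : Set Γ)
  hQK : Q ≤ K
  hKQ : K ≤ Subgroup.normalizer (Q : Set Γ)
  hcop : (Q.relIndex K).Coprime (orderOf s)
  hord : ∃ k, orderOf s = p ^ k
  mem_iff : ∀ c, c ∈ C ↔ c ∈ K ∧ s * c * s⁻¹ * c⁻¹ ∈ Q

namespace Setting

variable {p : ℕ} (S : Setting p K Q C s)
include S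

theorem le : C ≤ K := fun c hc => ((S.mem_iff c).mp hc).1

theorem Q_le : Q ≤ C := fun q hq => (S.mem_iff q).mpr ⟨S.hQK hq,
  mul_mem ((Subgroup.mem_normalizer_iff.mp S.hsQ q).mp hq) (inv_mem hq)⟩

theorem conj_mem {c : Γ} (hc : c ∈ C) : s * c * s⁻¹ ∈ C := by
  have h := mul_mem (S.Q_le ((S.mem_iff c).mp hc).2) hc
  rwa [inv_mul_cancel_right] at h

theorem normalizer [Finite Γ] : s ∈ Subgroup.normalizer (C : Set Γ) := by
  haveI : Finite C := inferInstance
  refine Subgroup.mem_normalizer_iff.mpr fun c => ⟨fun hc => S.conj_mem hc, fun hc => ?_⟩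
  -- conjugation by `s` is a bijection of the finite set `C`
  have hf : Function.Injective (fun x : C => (⟨s * x * s⁻¹, S.conj_mem x.2⟩ : C)) := fun a b e =>
    Subtype.ext (mul_left_cancel (mul_right_cancel (congrArg Subtype.val e)))
  obtain ⟨x, hx⟩ := (Finite.injective_iff_surjective.mp hf) ⟨_, hc⟩
  have := mul_left_cancel (mul_right_cancel (congrArg Subtype.val hx))
  exact this ▸ x.2

/-- Only elements of `C` in `K` carry a point of `Cs` to another. -/
theorem conj_split {g c c' : Γ} (hg : g ∈ K) (hc : c ∈ C) (hc' : c' ∈ C)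
    (h : g * (c * s) * g⁻¹ = c' * s) : g ∈ C := by
  set Z := Subgroup.normalizer (Q : Set Γ) with hZ
  haveI : (Q.subgroupOf Z).Normal := Subgroup.normal_in_normalizer
  set π := QuotientGroup.mk' (Q.subgroupOf Z) with hπ
  obtain ⟨k, h1, h2⟩ := Nat.chineseRemainder S.hcop.symm 1 0
  have one_iff : ∀ x : Z, π x = 1 ↔ (x : Γ) ∈ Q := fun x => by
    rw [hπ, QuotientGroup.mk'_apply, QuotientGroup.eq_one_iff, Subgroup.mem_subgroupOf]
  set sZ : Z := ⟨s, S.hsQ⟩
  have hπs : π sZ ^ k = π sZ := by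
    rw [← map_pow]
    congr 1
    conv_rhs => rw [← pow_one sZ]
    exact pow_eq_pow_iff_modEq.mpr (by rwa [show orderOf sZ = orderOf s from (Subgroup.orderOf_coe sZ).symm])
  have key : ∀ x (hx : x ∈ C), (π ⟨x, S.hKQ (S.le hx)⟩ * π sZ) ^ k = π sZ := by
    intro x hx
    have hcom : Commute (π ⟨x, S.hKQ (S.le hx)⟩) (π sZ) := by
      have := (one_iff (sZ * ⟨x, S.hKQ (S.le hx)⟩ * sZ⁻¹ * ⟨x, S.hKQ (S.le hx)⟩⁻¹)).mpr
        ((S.mem_iff x).mp hx).2
      rw [map_mul, map_mul, map_mul, map_inv, map_inv] at this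
      exact (commutatorElement_eq_one_iff_mul_comm.mp this).symm
    rw [hcom.mul_pow, hπs]
    have : π ⟨x, S.hKQ (S.le hx)⟩ ^ k = 1 := by
      rw [← map_pow, one_iff]
      obtain ⟨d, hd⟩ := Nat.modEq_zero_iff_dvd.mp h2
      rw [Subgroup.coe_pow, hd, pow_mul]
      refine pow_mem ?_ d
      haveI : (Q.subgroupOf K).Normal :=
        (Subgroup.normal_subgroupOf_iff_le_normalizer S.hQK).mpr S.hKQ
      exact Subgroup.mem_subgroupOf.mp (Subgroup.pow_index_mem (Q.subgroupOf K) ⟨x, S.le hx⟩)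
    rw [this, one_mul]
  set gZ : Z := ⟨g, S.hKQ hg⟩
  have h' : gZ * (⟨c, S.hKQ (S.le hc)⟩ * sZ) * gZ⁻¹ = ⟨c', S.hKQ (S.le hc')⟩ * sZ := Subtype.ext h
  have h3 := congrArg (fun x => π x ^ k) h'
  simp only [map_mul, map_inv, conj_pow, key c hc, key c' hc'] at h3
  refine (S.mem_iff g).mpr ⟨hg, (one_iff (sZ * gZ * sZ⁻¹ * gZ⁻¹)).mp ?_⟩
  rw [map_mul, map_mul, map_mul, map_inv, map_inv]
  exact commutatorElement_eq_one_iff_mul_comm.mpr (mul_inv_eq_iff_eq_mul.mp h3).symm

variable [Fintype Γ] [Fintype K] [Fintype C]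

/-- Summing over `Ks` reduces to summing over `Cs`. -/
theorem card_mul_sum_coset {F : Γ → ℂ} (hF : ∀ g ∈ K, ∀ x, F (g * x * g⁻¹) = F x) :
    (Nat.card C : ℂ) * ∑ n : K, F ((n : Γ) * s) = (Nat.card K : ℂ) * ∑ c : C, F ((c : Γ) * s) := by
  classical
  have hmem : ∀ p : K × C, (p.1 : Γ) * ((p.2 : Γ) * s) * (p.1 : Γ)⁻¹ * s⁻¹ ∈ K := by
    rintro ⟨n, c⟩
    rw [show (n : Γ) * ((c : Γ) * s) * (n : Γ)⁻¹ * s⁻¹ = n * (c * (s * (n : Γ)⁻¹ * s⁻¹)) by group]
    exact K.mul_mem n.2 (K.mul_mem (S.le c.2)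
      ((Subgroup.mem_normalizer_iff.mp S.hs _).mp (K.inv_mem n.2)))
  set Φ : K × C → K := fun p => ⟨_, hmem p⟩ with hΦ
  have hfib : ∀ x : K, (Finset.univ.filter fun p => Φ p = x).card ≤ Fintype.card C := by
    intro x
    rcases (Finset.univ.filter fun p => Φ p = x).eq_empty_or_nonempty with h0 | ⟨⟨n0, c0⟩, h0⟩
    · rw [h0]; simp
    · rw [Finset.mem_filter] at h0
      have key : ∀ p ∈ Finset.univ.filter fun p => Φ p = x,
          (n0 : Γ)⁻¹ * p.1 ∈ C ∧
            ((n0 : Γ)⁻¹ * p.1) * ((p.2 : Γ) * s) * ((n0 : Γ)⁻¹ * p.1)⁻¹ = c0 * s := by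
        rintro ⟨n, c⟩ hp
        rw [Finset.mem_filter] at hp
        have e' := mul_right_cancel (congrArg Subtype.val (hp.2.trans h0.2.symm) :
          (n : Γ) * ((c : Γ) * s) * (n : Γ)⁻¹ * s⁻¹ = (n0 : Γ) * ((c0 : Γ) * s) * (n0 : Γ)⁻¹ * s⁻¹)
        have h1 : ((n0 : Γ)⁻¹ * n) * ((c : Γ) * s) * ((n0 : Γ)⁻¹ * n)⁻¹ = c0 * s := by
          rw [show ((n0 : Γ)⁻¹ * n) * ((c : Γ) * s) * ((n0 : Γ)⁻¹ * n)⁻¹ =
            (n0 : Γ)⁻¹ * ((n : Γ) * ((c : Γ) * s) * (n : Γ)⁻¹) * n0 by group, e']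
          group
        exact ⟨S.conj_split (K.mul_mem (K.inv_mem n0.2) n.2) c.2 c0.2 h1, h1⟩
      refine (Finset.card_le_card_of_injOn (fun p => if h : (n0 : Γ)⁻¹ * p.1 ∈ C then
        (⟨_, h⟩ : C) else 1) (t := Finset.univ) (fun p _ => Finset.mem_univ _) ?_).trans
        (le_of_eq Finset.card_univ)
      intro p hp q hq e
      simp only [Finset.mem_coe] at hp hq
      simp only [dif_pos (key p hp).1, dif_pos (key q hq).1, Subtype.mk.injEq] at e
      have h1 : (p.1 : Γ) = q.1 := mul_left_cancel e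
      refine Prod.ext (Subtype.ext h1) (Subtype.ext ?_)
      have h2 := (key p hp).2.trans (key q hq).2.symm
      rw [h1] at h2
      exact mul_right_cancel (mul_left_cancel (mul_right_cancel h2))
  have hfull : ∀ x : K, (Finset.univ.filter fun p => Φ p = x).card = Fintype.card C := fun x => by
    refine (Finset.sum_eq_sum_iff_of_le fun x _ => hfib x).mp ?_ x (Finset.mem_univ x)
    rw [← Finset.card_eq_sum_card_fiberwise (fun p _ => Finset.mem_univ (Φ p)), Finset.sum_const,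
      Finset.card_univ, Finset.card_univ, Fintype.card_prod, smul_eq_mul]
  have h1 : ∑ p : K × C, F ((p.2 : Γ) * s) = (Nat.card K : ℂ) * ∑ c : C, F ((c : Γ) * s) := by
    rw [Fintype.sum_prod_type]
    dsimp only
    rw [Finset.sum_const, Finset.card_univ, nsmul_eq_mul, Nat.card_eq_fintype_card]
  rw [← h1, Finset.mul_sum,
    ← Finset.sum_fiberwise_of_maps_to (t := Finset.univ) (fun p _ => Finset.mem_univ (Φ p))]
  refine Finset.sum_congr rfl fun x _ => ?_
  rw [Finset.sum_congr rfl (g := fun _ => F ((x : Γ) * s)), Finset.sum_const, hfull, nsmul_eq_mul,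
    Nat.card_eq_fintype_card]
  intro p hp
  rw [Finset.mem_filter] at hp
  rw [← hp.2, ← hF (p.1 : Γ) p.1.2 ((p.2 : Γ) * s)]
  simp [hΦ]

/-- The inclusion of `C⟨s⟩` in `K⟨s⟩`. -/
def incl : ↥(C ⊔ Subgroup.zpowers s) →* ↥(K ⊔ Subgroup.zpowers s) :=
  Subgroup.inclusion (sup_le_sup_right S.le _)

/-- The inner product on `Ks` is the inner product on `Cs`. -/
theorem classInner_coset {f g : ↥(K ⊔ Subgroup.zpowers s) → ℂ} (hf : IsClassFunction _ f)
    (hg : IsClassFunction _ g) :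
    classInner (cosetFun C s (f ∘ S.incl)) (cosetFun C s (g ∘ S.incl)) =
      classInner (cosetFun K s f) (cosetFun K s g) := by
  classical
  set F : Γ → ℂ := fun x => if h : x ∈ (K ⊔ Subgroup.zpowers s) then f ⟨x, h⟩ * conj (g ⟨x, h⟩) else 0 with hF
  have hKM : K ≤ (K ⊔ Subgroup.zpowers s) := le_sup_left
  have hsM : s ∈ (K ⊔ Subgroup.zpowers s) := Subgroup.mem_sup_right (Subgroup.mem_zpowers s)
  have hinv : ∀ y ∈ K, ∀ x, F (y * x * y⁻¹) = F x := by
    intro y hy x
    by_cases hx : x ∈ (K ⊔ Subgroup.zpowers s)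
    · have hx' : y * x * y⁻¹ ∈ (K ⊔ Subgroup.zpowers s) := mul_mem (mul_mem (hKM hy) hx) (inv_mem (hKM hy))
      simp only [hF, dif_pos hx, dif_pos hx']
      rw [show (⟨_, hx'⟩ : ↥(K ⊔ Subgroup.zpowers s)) = ⟨y, hKM hy⟩ * ⟨x, hx⟩ * (⟨y, hKM hy⟩ : ↥(K ⊔ Subgroup.zpowers s))⁻¹ from Subtype.ext rfl,
        hf _ _, hg _ _]
    · have hx' : y * x * y⁻¹ ∉ (K ⊔ Subgroup.zpowers s) := fun h => hx (by
        have := mul_mem (mul_mem (inv_mem (hKM hy)) h) (hKM hy)
        simpa [mul_assoc] using this)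
      simp only [hF, dif_neg hx, dif_neg hx']
  have h := S.card_mul_sum_coset hinv
  have e1 : ∀ n : K, F ((n : Γ) * s) = cosetFun K s f n * conj (cosetFun K s g n) := fun n => by
    simp only [hF, dif_pos (mul_mem (hKM n.2) hsM), cosetFun]
  have e2 : ∀ c : C, F ((c : Γ) * s) =
      cosetFun C s (f ∘ S.incl) c * conj (cosetFun C s (g ∘ S.incl) c) := fun c => by
    simp only [hF, dif_pos (mul_mem (hKM (S.le c.2)) hsM)]
    rfl
  simp only [e1, e2] at h
  have hNc : (Nat.card K : ℂ) ≠ 0 := Nat.cast_ne_zero.mpr Nat.card_pos.ne'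
  have hCc : (Nat.card C : ℂ) ≠ 0 := Nat.cast_ne_zero.mpr Nat.card_pos.ne'
  simp only [classInner]
  field_simp
  linear_combination -h

/-- The correspondence for one element. -/
theorem hasRelCorr (hp : p.Prime) : HasRelCorr p K (Subgroup.zpowers s) C S.le := by
  classical
  have hsC := S.normalizer
  have hcl : ∀ {H : Subgroup Γ} (φ : IrrCharacter H), IsClassFunction H (φ : H → ℂ) := fun φ =>
    isClassFunction_of_isCharacter (isCharacter_of_isIrr φ.2)
  choose extK hextK using fun χ : {χ : IrrCharacter K // Inv K (Subgroup.zpowers s) (χ : K → ℂ)} =>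
    exists_extension S.hs χ.1 χ.2
  choose extC hextC using fun γ : {γ : IrrCharacter C // Inv C (Subgroup.zpowers s) (γ : C → ℂ)} =>
    exists_extension hsC γ.1 γ.2
  set u : {χ : IrrCharacter K // Inv K (Subgroup.zpowers s) (χ : K → ℂ)} → C → ℂ :=
    fun χ => cosetFun C s ((extK χ : _ → ℂ) ∘ S.incl) with hu
  set v : {γ : IrrCharacter C // Inv C (Subgroup.zpowers s) (γ : C → ℂ)} → C → ℂ :=
    fun γ => cosetFun C s (extC γ : _ → ℂ) with hv
  have hvv : ∀ γ γ', classInner (v γ) (v γ') = if γ = γ' then (1 : ℂ) else 0 := by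
    intro γ γ'
    split_ifs with h
    · subst h; exact (coset_orth hsC (hextC γ) (hextC γ)).1
    · exact (coset_orth hsC (hextC γ) (hextC γ')).2 fun e => h (Subtype.ext e)
  have huu : ∀ χ χ', classInner (u χ) (u χ') = if χ = χ' then (1 : ℂ) else 0 := by
    intro χ χ'
    simp only [hu]
    rw [S.classInner_coset (hcl _) (hcl _)]
    split_ifs with h
    · subst h; exact (coset_orth S.hs (hextK χ) (hextK χ)).1
    · exact (coset_orth S.hs (hextK χ) (hextK χ')).2 fun e => h (Subtype.ext e)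
  -- expansion on `Cs`
  have hexp : ∀ χ, u χ = ∑ γ, classInner (u χ) (v γ) • v γ := by
    intro χ
    have hch : IsCharacter _ ((extK χ : _ → ℂ) ∘ S.incl) :=
      isCharacter_comp S.incl (isCharacter_of_isIrr (extK χ).2)
    haveI := Fintype.ofFinite ↥(C ⊔ Subgroup.zpowers s)
    obtain ⟨m, hm⟩ := exists_multiplicities hch
    have hone : ∀ ω : IrrCharacter ↥(C ⊔ Subgroup.zpowers s), ∃ z : _ → ℂ,
        cosetFun C s (ω : _ → ℂ) = ∑ γ, z γ • v γ := by
      intro ω
      rcases cases_coset hsC ω with h | ⟨γ, hγ, h⟩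
      · exact ⟨0, by simp [h]⟩
      · obtain ⟨z, hz⟩ := h (extC ⟨γ, hγ⟩) (hextC ⟨γ, hγ⟩)
        refine ⟨fun δ => if δ = ⟨γ, hγ⟩ then z else 0, ?_⟩
        simp only [ite_smul, zero_smul, Finset.sum_ite_eq', Finset.mem_univ, if_true]
        exact hz
    choose z hz using hone
    have h1 : u χ = ∑ γ, (∑ ω, (m ω : ℂ) * z ω γ) • v γ := by
      funext c
      simp only [hu, cosetFun]
      rw [hm]
      simp only [Finset.sum_apply, Pi.smul_apply, smul_eq_mul, Finset.sum_mul]
      rw [Finset.sum_comm]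
      refine Finset.sum_congr rfl fun ω _ => ?_
      have := congrFun (hz ω) c
      simp only [cosetFun] at this
      rw [this, Finset.sum_apply, Finset.mul_sum]
      exact Finset.sum_congr rfl fun γ _ => by rw [Pi.smul_apply, smul_eq_mul]; ring
    have h2 : ∀ γ, classInner (u χ) (v γ) = ∑ ω, (m ω : ℂ) * z ω γ := by
      intro γ
      rw [h1, classInner_sum_left]
      simp [classInner_smul_left, hvv]
    exact h1.trans (Finset.sum_congr rfl fun γ _ => by rw [h2])
  obtain ⟨k, hk⟩ := S.hord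
  have hω : IsPrimitiveRoot (Complex.exp (2 * Real.pi * Complex.I / (p ^ k : ℕ))) (p ^ k) :=
    Complex.isPrimitiveRoot_exp _ (pow_ne_zero k hp.ne_zero)
  set ω := Complex.exp (2 * Real.pi * Complex.I / (p ^ k : ℕ))
  choose P hP hP1 using fun (χ : {χ : IrrCharacter K // Inv K (Subgroup.zpowers s) (χ : K → ℂ)})
      (γ : {γ : IrrCharacter C // Inv C (Subgroup.zpowers s) (γ : C → ℂ)}) =>
    exists_poly_coset (A := C) (s := s) hsC
      (isCharacter_comp S.incl (isCharacter_of_isIrr (extK χ).2))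
      (isCharacter_of_isIrr (extC γ).2) (ω := ω) (hk ▸ hω)
  have hP' : ∀ χ γ, Polynomial.aeval ω (P χ γ) = classInner (u χ) (v γ) := hP
  have hres : ∀ χ γ, classInner (res S.le ((χ : _).1 : K → ℂ)) ((γ : _).1 : C → ℂ) =
      (((P χ γ).eval 1 : ℤ) : ℂ) := by
    intro χ γ
    rw [hP1, hextC γ]
    congr 1
    funext c
    exact (congrFun (hextK χ) ⟨c, S.le c.2⟩).symm
  have hunit : ∀ χ, ∑ γ, Polynomial.aeval ω (P χ γ) * conj (Polynomial.aeval ω (P χ γ)) = 1 := by
    intro χ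
    have h := huu χ χ
    rw [if_pos rfl] at h
    nth_rw 1 [hexp χ] at h
    rw [classInner_sum_left] at h
    refine Eq.trans (Finset.sum_congr rfl fun γ _ => ?_) h
    rw [classInner_smul_left, hP', show classInner (v γ) (u χ) = conj (classInner (u χ) (v γ)) from
      (classInner_conj_symm _ _).symm]
  choose F hF0 hF1 hF2 using fun χ => rigid hp hω (P χ) (hunit χ)
  have hrep : ∀ χ, u χ = classInner (u χ) (v (F χ)) • v (F χ) := by
    intro χ
    conv_lhs => rw [hexp χ]
    refine Finset.sum_eq_single _ (fun γ _ hγ => ?_) fun h => absurd (Finset.mem_univ _) h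
    have h0 := (hF2 χ γ hγ).1
    rw [hP'] at h0
    rw [h0, zero_smul]
  refine ⟨F, ⟨fun χ χ' e => ?_, fun γ => ?_⟩, fun χ γ hγ m hm => ?_⟩
  · by_contra hne
    have h := huu χ χ'
    rw [if_neg hne, hrep χ, hrep χ', e, classInner_smul_left, classInner_smul_right, hvv,
      if_pos rfl, mul_one, mul_eq_zero] at h
    rcases h with h | h
    · have := hF0 χ
      rw [hP'] at this
      exact this (by rw [e]; exact h)
    · have := hF0 χ'
      rw [hP'] at this
      exact this ((map_eq_zero _).mp h)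
  · by_contra hno
    push Not at hno
    -- every irreducible of `K⟨s⟩` is orthogonal to `γ` on `Cs`
    have horth : ∀ η : IrrCharacter ↥(K ⊔ Subgroup.zpowers s),
        classInner (cosetFun C s ((η : _ → ℂ) ∘ S.incl)) (v γ) = 0 := by
      intro η
      have hval : ∀ c : C, cosetFun C s ((η : _ → ℂ) ∘ S.incl) c =
          cosetFun K s (η : _ → ℂ) ⟨c, S.le c.2⟩ := fun c => rfl
      rcases cases_coset S.hs η with h | ⟨χ, hχ, h⟩
      · rw [show cosetFun C s ((η : _ → ℂ) ∘ S.incl) = (0 : C → ℂ) from funext fun c => by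
          rw [hval, h]; rfl, classInner_zero_left]
      · obtain ⟨z, hz⟩ := h (extK ⟨χ, hχ⟩) (hextK ⟨χ, hχ⟩)
        rw [show cosetFun C s ((η : _ → ℂ) ∘ S.incl) = z • u ⟨χ, hχ⟩ from funext fun c => by
          rw [hval, hz]; rfl, classInner_smul_left, hrep ⟨χ, hχ⟩, classInner_smul_left, hvv,
          if_neg (hno _), mul_zero, mul_zero]
    set M := K ⊔ Subgroup.zpowers s with hM
    haveI := Fintype.ofFinite M
    haveI := Fintype.ofFinite ↥(C ⊔ Subgroup.zpowers s)
    set sM : M := ⟨s, Subgroup.mem_sup_right (Subgroup.mem_zpowers s)⟩ with hsM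
    set T : M → ℂ := fun x => ∑ g : M,
      if h : ((g * x * g⁻¹ * sM⁻¹ : M) : Γ) ∈ C then v γ ⟨_, h⟩ else 0 with hT
    have hTcl : IsClassFunction M T := by
      intro x h
      simp only [hT]
      refine Fintype.sum_equiv (Equiv.mulRight h) _ _ fun g => ?_
      simp only [Equiv.coe_mulRight, mul_inv_rev, mul_assoc]
    have htop := (setting S.hs).2
    haveI := (setting S.hs).1
    have hTs : ∀ x, T x ≠ 0 → ((x * sM⁻¹ : M) : Γ) ∈ K := by
      intro x hx
      obtain ⟨g, -, hg⟩ := Finset.exists_ne_zero_of_sum_ne_zero hx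
      split_ifs at hg with h
      · obtain ⟨m, hm, i, rfl⟩ := exists_eq_mul_zpow htop g
        have hN : (K.subgroupOf M).Normal := inferInstance
        have h2 : m * sM ^ i * x * (m * sM ^ i)⁻¹ * sM⁻¹ ∈ K.subgroupOf M := S.le h
        rw [show m * sM ^ i * x * (m * sM ^ i)⁻¹ * sM⁻¹ =
          (m * (sM ^ i * (x * sM⁻¹) * (sM ^ i)⁻¹)) * (sM * m⁻¹ * sM⁻¹) by group] at h2
        rw [Subgroup.mul_mem_cancel_right _ (hN.conj_mem _ (inv_mem hm) sM),
          Subgroup.mul_mem_cancel_left _ hm] at h2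
        have h3 := hN.conj_mem _ h2 (sM ^ i)⁻¹
        rw [show (sM ^ i)⁻¹ * (sM ^ i * (x * sM⁻¹) * (sM ^ i)⁻¹) * ((sM ^ i)⁻¹)⁻¹ = x * sM⁻¹ by
          group] at h3
        exact h3
      · exact absurd rfl hg
    -- on `Cs` the function `T` is a positive multiple of `γ`
    set E := Finset.univ.filter fun g : M => (g : Γ) ∈ (C ⊔ Subgroup.zpowers s) with hE
    have hTc : ∀ c : C, T ⟨(c : Γ) * s, mul_mem (Subgroup.mem_sup_left (S.le c.2))
        (Subgroup.mem_sup_right (Subgroup.mem_zpowers s))⟩ = (E.card : ℂ) * v γ c := by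
      intro c
      have hcD : (c : Γ) * s ∈ (C ⊔ Subgroup.zpowers s) :=
        mul_mem (Subgroup.mem_sup_left c.2) (Subgroup.mem_sup_right (Subgroup.mem_zpowers s))
      simp only [hT]
      rw [hE, Finset.card_eq_sum_ones, Nat.cast_sum, Finset.sum_mul, Finset.sum_filter]
      refine Finset.sum_congr rfl fun g _ => ?_
      set y : Γ := ((g * ⟨(c : Γ) * s, mul_mem (Subgroup.mem_sup_left (S.le c.2))
        (Subgroup.mem_sup_right (Subgroup.mem_zpowers s))⟩ * g⁻¹ * sM⁻¹ : M) : Γ) with hy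
      have hy' : y = (g : Γ) * ((c : Γ) * s) * (g : Γ)⁻¹ * s⁻¹ := rfl
      by_cases hg : (g : Γ) ∈ (C ⊔ Subgroup.zpowers s)
      · haveI := (setting hsC).1
        have hyC : y ∈ C := by
          set gD : ↥(C ⊔ Subgroup.zpowers s) := ⟨g, hg⟩
          set sD : ↥(C ⊔ Subgroup.zpowers s) := ⟨s, Subgroup.mem_sup_right (Subgroup.mem_zpowers s)⟩
          set cD : ↥(C ⊔ Subgroup.zpowers s) := ⟨c, Subgroup.mem_sup_left c.2⟩
          obtain ⟨m, hm, i, hgi⟩ := exists_eq_mul_zpow (setting hsC).2 gD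
          have hN : (C.subgroupOf (C ⊔ Subgroup.zpowers s)).Normal := inferInstance
          have hc' : cD ∈ C.subgroupOf (C ⊔ Subgroup.zpowers s) := c.2
          have h2 : gD * (cD * sD) * gD⁻¹ * sD⁻¹ ∈ C.subgroupOf (C ⊔ Subgroup.zpowers s) := by
            rw [hgi, show m * sD ^ i * (cD * sD) * (m * sD ^ i)⁻¹ * sD⁻¹ =
              (m * (sD ^ i * cD * (sD ^ i)⁻¹)) * (sD * m⁻¹ * sD⁻¹) by group]
            exact mul_mem (mul_mem hm (hN.conj_mem _ hc' _)) (hN.conj_mem _ (inv_mem hm) sD)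
          exact h2
        rw [dif_pos hyC, if_pos hg, Nat.cast_one, one_mul]
        simp only [hv, cosetFun]
        rw [show (⟨y * s, mul_mem (Subgroup.mem_sup_left hyC)
            (Subgroup.mem_sup_right (Subgroup.mem_zpowers s))⟩ : ↥(C ⊔ Subgroup.zpowers s)) =
          ⟨g, hg⟩ * ⟨(c : Γ) * s, hcD⟩ * (⟨g, hg⟩ : ↥(C ⊔ Subgroup.zpowers s))⁻¹ from
          Subtype.ext (by simp [hy', mul_assoc]), hcl (extC γ) _ _]
      · rw [if_neg hg, dif_neg]
        intro hyC
        apply hg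
        obtain ⟨m, hm, i, hgi⟩ := exists_eq_mul_zpow htop g
        have hi : s ^ i ∈ (C ⊔ Subgroup.zpowers s) := Subgroup.mem_sup_right (Subgroup.zpow_mem_zpowers s i)
        have hc1 : s ^ i * (c : Γ) * (s ^ i)⁻¹ ∈ C :=
          (Subgroup.mem_normalizer_iff.mp (zpow_mem hsC i) _).mp c.2
        have e : (g : Γ) = (m : Γ) * s ^ i := by rw [hgi]; simp [hsM]
        have h1 : (m : Γ) * (s ^ i * (c : Γ) * (s ^ i)⁻¹ * s) * (m : Γ)⁻¹ = y * s := by
          rw [hy', e]; group
        rw [e]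
        exact mul_mem (Subgroup.mem_sup_left (S.conj_split hm hc1 hyC h1)) hi
    have hzero : T = 0 := by
      refine eq_zero_of_orthogonal hTcl fun η => ?_
      have h1 : ∑ x : M, T x * conj ((η : M → ℂ) x) =
          ∑ n : K, cosetFun K s T n * conj (cosetFun K s (η : M → ℂ) n) := by
        refine (Finset.sum_bij_ne_zero (fun (n : K) _ _ => (⟨(n : Γ) * s, mul_mem
          (Subgroup.mem_sup_left n.2) (Subgroup.mem_sup_right (Subgroup.mem_zpowers s))⟩ : M))
          (fun _ _ _ => Finset.mem_univ _)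
          (fun a _ _ b _ _ e => Subtype.ext (mul_right_cancel (congrArg Subtype.val e)))
          (fun x _ hx => ?_) (fun _ _ _ => rfl)).symm
        refine ⟨⟨_, hTs x (left_ne_zero_of_mul hx)⟩, Finset.mem_univ _, ?_, ?_⟩
        · have : (⟨((x * sM⁻¹ : M) : Γ) * s, mul_mem (Subgroup.mem_sup_left (hTs x (left_ne_zero_of_mul hx)))
            (Subgroup.mem_sup_right (Subgroup.mem_zpowers s))⟩ : M) = x := Subtype.ext (by simp [hsM])
          simp only [cosetFun]
          rw [this]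
          exact hx
        · exact Subtype.ext (by simp [hsM])
      have h2 := S.classInner_coset hTcl (hcl η)
      rw [show cosetFun C s (T ∘ S.incl) = (E.card : ℂ) • v γ from funext fun c => hTc c,
        classInner_smul_left] at h2
      have h3 : classInner (v γ) (cosetFun C s ((η : M → ℂ) ∘ S.incl)) = 0 := by
        rw [← classInner_conj_symm, horth η, map_zero]
      rw [h3, mul_zero] at h2
      simp only [classInner] at h2 ⊢
      rw [eq_comm, mul_eq_zero] at h2
      rw [h1, h2.resolve_left (inv_ne_zero (Nat.cast_ne_zero.mpr Nat.card_pos.ne')), mul_zero]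
    have hEpos : (E.card : ℂ) ≠ 0 :=
      Nat.cast_ne_zero.mpr (Finset.card_ne_zero.mpr ⟨1, by simp [hE]⟩)
    have hv0 : v γ = 0 := funext fun c => by
      have h := hTc c
      rw [hzero, Pi.zero_apply, eq_comm, mul_eq_zero] at h
      simpa using h.resolve_left hEpos
    have := hvv γ γ
    rw [if_pos rfl, hv0, classInner_zero_left] at this
    exact zero_ne_one this
  · have hm' : (P χ ⟨γ, hγ⟩).eval 1 = (m : ℤ) := by
      have h := (hres χ ⟨γ, hγ⟩).symm.trans hm
      exact_mod_cast h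
    refine ⟨fun hne => ?_, fun heq => ?_⟩
    · have h := (hF2 χ ⟨γ, hγ⟩ fun e => hne (congrArg Subtype.val e)).2
      rw [hm'] at h
      exact_mod_cast h
    · have e : (⟨γ, hγ⟩ : {γ : IrrCharacter C // Inv C (Subgroup.zpowers s) (γ : C → ℂ)}) = F χ :=
        Subtype.ext heq
      rw [← hm', e]
      exact hF1 χ

end Setting

end CfsgLib.Char.RelGlauberman
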