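import Cfsg.Agent.Lib.Char.RelGlauberman.Coset
import Cfsg.Agent.Lib.Char.GlaubermanPGroup

/-!
# The coset `As` in `A⟨s⟩` for an element normalising `A`
-/

set_option autoImplicit false
set_option linter.style.haveILetI false
set_option linter.unusedSectionVars false

namespace CfsgLib.Char.RelGlauberman

open Cfsg CfsgLib.Char CfsgLib.Char.Canonical
open CfsgLib.Char.Glauberman (Inv res conjEquiv inv_sup)
open scoped ComplexConjugate CfsgLib.Char

variable {Γ : Type*} [Group Γ] [Fintype Γ] (A : Subgroup Γ) [Fintype A] (s : Γ)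

/-- The values on the coset of `s`. -/
def cosetFun (f : ↥(A ⊔ Subgroup.zpowers s) → ℂ) : A → ℂ :=
  fun a => f ⟨(a : Γ) * s, mul_mem (Subgroup.mem_sup_left a.2)
    (Subgroup.mem_sup_right (Subgroup.mem_zpowers s))⟩

/-- The restriction to `A`. -/
def baseFun (f : ↥(A ⊔ Subgroup.zpowers s) → ℂ) : A → ℂ :=
  fun a => f ⟨(a : Γ), Subgroup.mem_sup_left a.2⟩

variable {A s}

theorem inv_zpowers_iff (hs : s ∈ Subgroup.normalizer (A : Set Γ)) {f : A → ℂ} :
    Inv A (Subgroup.zpowers s) f ↔ ∀ a, f (conjEquiv hs a) = f a := by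
  refine ⟨fun h a => h s (Subgroup.mem_zpowers s) _ _ rfl, fun h => ?_⟩
  have h1 := inv_sup (T := ⊥) bot_le hs (χ := f) (fun t ht g g' e => by
    rw [Subgroup.mem_bot] at ht; subst ht
    exact congrArg _ (Subtype.ext (by simpa using e))) (funext h)
  rwa [bot_sup_eq] at h1

theorem setting (hs : s ∈ Subgroup.normalizer (A : Set Γ)) :
    (A.subgroupOf (A ⊔ Subgroup.zpowers s)).Normal ∧
    A.subgroupOf (A ⊔ Subgroup.zpowers s) ⊔ Subgroup.zpowers
      (⟨s, Subgroup.mem_sup_right (Subgroup.mem_zpowers s)⟩ : ↥(A ⊔ Subgroup.zpowers s)) = ⊤ := by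
  refine ⟨(Subgroup.normal_subgroupOf_iff_le_normalizer le_sup_left).mpr
    (sup_le Subgroup.le_normalizer (Subgroup.zpowers_le.mpr hs)), ?_⟩
  apply Subgroup.map_injective (A ⊔ Subgroup.zpowers s).subtype_injective
  rw [Subgroup.map_sup, Subgroup.subgroupOf_map_subtype, inf_eq_left.mpr le_sup_left,
    MonoidHom.map_zpowers, ← MonoidHom.range_eq_map, Subgroup.range_subtype]
  rfl

theorem exists_extension (hs : s ∈ Subgroup.normalizer (A : Set Γ)) (χ : IrrCharacter A)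
    (hinv : Inv A (Subgroup.zpowers s) (χ : A → ℂ)) :
    ∃ η : IrrCharacter ↥(A ⊔ Subgroup.zpowers s),
      baseFun A s (η : _ → ℂ) = (χ : A → ℂ) := by
  obtain ⟨hN, htop⟩ := setting hs
  haveI := hN
  haveI := Fintype.ofFinite ↥(A ⊔ Subgroup.zpowers s)
  haveI := Fintype.ofFinite (A.subgroupOf (A ⊔ Subgroup.zpowers s))
  set e := Subgroup.subgroupOfEquivOfLe (le_sup_left : A ≤ A ⊔ Subgroup.zpowers s)
  obtain ⟨η, hη⟩ := exists_ext _ htop
    ⟨fun n => (χ : A → ℂ) (e n), isIrrCharacter_comp_mulEquiv e χ.2⟩ (by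
      funext n
      exact hinv s (Subgroup.mem_zpowers s) _ _ rfl)
  exact ⟨η, funext fun a => (hη (e.symm a)).trans (congrArg _ (e.apply_symm_apply a))⟩

theorem cases_coset (hs : s ∈ Subgroup.normalizer (A : Set Γ))
    (ω : IrrCharacter ↥(A ⊔ Subgroup.zpowers s)) :
    cosetFun A s (ω : _ → ℂ) = 0 ∨
      ∃ χ : IrrCharacter A, Inv A (Subgroup.zpowers s) (χ : A → ℂ) ∧
        ∀ η : IrrCharacter ↥(A ⊔ Subgroup.zpowers s), baseFun A s (η : _ → ℂ) = (χ : A → ℂ) →
          ∃ z : ℂ, cosetFun A s (ω : _ → ℂ) = z • cosetFun A s (η : _ → ℂ) := by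
  obtain ⟨hN, htop⟩ := setting hs
  haveI := hN
  haveI := Fintype.ofFinite ↥(A ⊔ Subgroup.zpowers s)
  haveI := Fintype.ofFinite (A.subgroupOf (A ⊔ Subgroup.zpowers s))
  set e := Subgroup.subgroupOfEquivOfLe (le_sup_left : A ≤ A ⊔ Subgroup.zpowers s)
  rcases coset_cases _ htop ω with h | ⟨θ, hθ, h⟩
  · exact Or.inl (funext fun a => h (e.symm a))
  · refine Or.inr ⟨⟨fun a => (θ : _ → ℂ) (e.symm a), isIrrCharacter_comp_mulEquiv e.symm θ.2⟩,
      (inv_zpowers_iff hs).mpr fun a => ?_, fun η hη => ?_⟩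
    · exact congrFun hθ (e.symm a)
    · obtain ⟨z, hz⟩ := h η fun n => (congrFun hη (e n)).trans (congrArg _ (e.symm_apply_apply n))
      exact ⟨z, funext fun a => hz (e.symm a)⟩

theorem coset_orth (hs : s ∈ Subgroup.normalizer (A : Set Γ))
    {χ χ' : IrrCharacter A} {η η' : IrrCharacter ↥(A ⊔ Subgroup.zpowers s)}
    (h : baseFun A s (η : _ → ℂ) = (χ : A → ℂ)) (h' : baseFun A s (η' : _ → ℂ) = (χ' : A → ℂ)) :
    classInner (cosetFun A s (η : _ → ℂ)) (cosetFun A s (η : _ → ℂ)) = 1 ∧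
      (χ ≠ χ' → classInner (cosetFun A s (η : _ → ℂ)) (cosetFun A s (η' : _ → ℂ)) = 0) := by
  classical
  obtain ⟨hN, htop⟩ := setting hs
  haveI := hN
  haveI := Fintype.ofFinite ↥(A ⊔ Subgroup.zpowers s)
  haveI := Fintype.ofFinite (A.subgroupOf (A ⊔ Subgroup.zpowers s))
  set e := Subgroup.subgroupOfEquivOfLe (le_sup_left : A ≤ A ⊔ Subgroup.zpowers s)
  set sM : ↥(A ⊔ Subgroup.zpowers s) := ⟨s, Subgroup.mem_sup_right (Subgroup.mem_zpowers s)⟩
  have key : ∀ f g : ↥(A ⊔ Subgroup.zpowers s) → ℂ,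
      classInner (cosetFun A s f) (cosetFun A s g) =
        avgN (A.subgroupOf (A ⊔ Subgroup.zpowers s)) (fun y => f y * conj (g y)) sM := fun f g => by
    rw [avgN_mul_conj, ← classInner_comp_mulEquiv e (cosetFun A s f) (cosetFun A s g)]
    rfl
  have hres : ∀ {χ : IrrCharacter A} {η : IrrCharacter ↥(A ⊔ Subgroup.zpowers s)},
      baseFun A s (η : _ → ℂ) = (χ : A → ℂ) →
      ∀ n : A.subgroupOf (A ⊔ Subgroup.zpowers s), (η : ↥(A ⊔ Subgroup.zpowers s) → ℂ) (n : ↥(A ⊔ Subgroup.zpowers s)) = (χ : A → ℂ) (e n) :=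
    fun h n => congrFun h (e n)
  refine ⟨?_, fun hne => ?_⟩
  · rw [key, avgN_mul_conj_extension_self _ (isIrrCharacter_comp_mulEquiv e χ.2) η.2 (hres h)]
  · rw [key, avgN_mul_conj_extension_eq_zero _ (isIrrCharacter_comp_mulEquiv e χ'.2) η'.2 (hres h')
      (isCharacter_of_isIrr η.2) ?_]
    · rfl
    · rw [show (fun n : A.subgroupOf (A ⊔ Subgroup.zpowers s) => (η : ↥(A ⊔ Subgroup.zpowers s) → ℂ) n) =
        fun n => (χ : A → ℂ) (e n) from funext (hres h), classInner_comp_mulEquiv,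
        classInner_irr_ne χ.2 χ'.2 fun h0 => hne (Subtype.ext h0)]

/-- Integrality of an inner product on the coset, and its reduction. -/
theorem exists_poly_coset (hs : s ∈ Subgroup.normalizer (A : Set Γ))
    {f g : ↥(A ⊔ Subgroup.zpowers s) → ℂ} (hf : IsCharacter _ f) (hg : IsCharacter _ g)
    {ω : ℂ} (hω : IsPrimitiveRoot ω (orderOf s)) :
    ∃ P : Polynomial ℤ, Polynomial.aeval ω P = classInner (cosetFun A s f) (cosetFun A s g) ∧
      ((P.eval 1 : ℤ) : ℂ) = classInner (baseFun A s f) (baseFun A s g) := by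
  classical
  obtain ⟨hN, htop⟩ := setting hs
  haveI := hN
  haveI := Fintype.ofFinite ↥(A ⊔ Subgroup.zpowers s)
  haveI := Fintype.ofFinite (A.subgroupOf (A ⊔ Subgroup.zpowers s))
  set e := Subgroup.subgroupOfEquivOfLe (le_sup_left : A ≤ A ⊔ Subgroup.zpowers s)
  set sM : ↥(A ⊔ Subgroup.zpowers s) := ⟨s, Subgroup.mem_sup_right (Subgroup.mem_zpowers s)⟩
    with hsM
  obtain ⟨P, h1, h2⟩ := exists_poly (A.subgroupOf (A ⊔ Subgroup.zpowers s)) (s := sM)
    (isCharacter_mul hf (isCharacter_conj hg))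
    (ω := ω) (by rwa [show orderOf sM = orderOf s from (Subgroup.orderOf_coe sM).symm])
  refine ⟨P, ?_, ?_⟩
  · rw [h1, ← classInner_comp_mulEquiv e (cosetFun A s f) (cosetFun A s g)]
    rfl
  · rw [h2, ← classInner_comp_mulEquiv e (baseFun A s f) (baseFun A s g)]
    simp only [avgN, classInner, mul_one]
    rfl

end CfsgLib.Char.RelGlauberman
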